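import Cfsg.Agent.DCoset.Emit

/-! Generated data: words for the generators of the model. -/

set_option autoImplicit false
set_option maxRecDepth 100000
set_option linter.all false

namespace Cfsg.Agent.Co3TwoM12.Data

open Cfsg.Agent.CosetCert

/-- the two generators of the model in the letters -/
def coWords : List (List ℕ) := [[9, 7, 9, 6, 9, 8, 9, 7, 9, 6, 8, 8, 6, 8, 9, 6, 7, 7, 9, 7, 9, 8, 9, 8, 6, 9, 8, 8, 6, 9, 6, 9, 7, 6, 9, 7, 9, 8, 6, 9, 8, 8, 8, 8, 9, 8, 6, 9, 6, 7, 6, 9, 7, 9, 6, 7, 7, 6, 9, 7, 7, 6, 8, 8, 9, 7, 7, 7, 9, 8, 6, 8, 8, 6, 9, 6, 9, 7, 7, 7, 6, 9, 7, 6, 7, 7, 9, 7, 6, 7, 9, 7, 6, 7, 9, 8, 6, 9, 8, 6, 7, 6, 9, 7, 7, 9, 7, 6, 8, 9, 8, 6, 9, 6, 7, 6, 7, 6, 8, 6, 7, 6, 8, 8,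 9, 7, 9, 8, 9, 6, 7, 6, 8, 6, 9, 7, 9, 8, 6, 8, 9, 6, 8, 6, 7, 6, 8, 9, 7, 6, 9, 6, 9, 7, 6, 9, 7, 7, 6, 9, 8, 8], [6, 8, 8, 9, 7, 7, 7, 9, 8, 6, 8, 8, 6, 9, 6, 9, 7, 7, 7, 6, 9, 7, 6, 7, 7, 9, 7, 6, 7, 9, 7, 6, 7, 9, 8, 6, 9, 8, 6, 7, 6, 9, 7, 7, 9, 7, 6, 8, 9, 8, 6, 9, 6, 7, 6, 7, 6, 8, 6, 7, 6, 9, 6, 9, 8, 6, 9, 8, 9, 8, 6, 8, 6, 9, 7, 6, 7, 9, 6, 8, 8, 8, 9, 6, 9, 7, 6, 7, 9, 6, 7, 6, 7, 6, 7, 9, 6, 7, 7, 6, 8, 8, 9, 8, 6, 9, 8, 9, 7, 6, 8, 8, 6, 9, 6, 7, 6, 8, 8, 9, 8, 6, 7, 9, 7, 6, 8, 9, 8, 8, 9, 6, 7, 6, 8, 8, 9, 7, 9, 8, 6, 7, 6, 9, 6, 9, 6, 8, 8, 6, 8, 8, 9, 8, 9, 6, 8, 8, 9, 7, 6]]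

end Cfsg.Agent.Co3TwoM12.Data
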