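import Cfsg.Agent.DCoset.Emit

/-! Generated data: the candidates of the triangle relations. -/

set_option autoImplicit false
set_option maxRecDepth 100000
set_option linter.all false

namespace Cfsg.Agent.Co3TwoM12.Data

open Cfsg.Agent.DCoset Cfsg.Agent.CosetCert

/-- the automorphism of a case -/
def relK : List ℕ := [0, 0, 1, 2, 2, 3]

/-- the first words -/
def relG : List (List ℕ) := [[6, 7, 7, 7, 6],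
  [8, 6, 7, 6, 8, 6, 8, 6, 8, 6, 8, 6, 7, 6, 8, 6, 8, 6, 8, 8, 6, 8, 8, 6, 8, 8, 6, 7, 6, 7, 6, 8, 8, 8, 8, 8, 6, 8, 6, 8, 8, 6, 8, 6, 7, 7, 6, 8, 6, 8],
  [6, 7, 7, 7, 6],
  [7, 7, 6, 7, 6, 7, 6, 8, 8, 6, 8, 8, 6, 7, 7, 6],
  [6, 8, 8, 6, 8, 6, 8, 6, 8, 8, 6, 7, 6, 8, 6, 7, 6, 7, 7, 6, 7],
  [7, 7, 6, 7, 6, 7, 6, 8, 8, 6, 8, 8, 6, 7, 7, 6]]

/-- the second words -/
def relH : List (List ℕ) := [[7, 7, 7],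
  [8, 6, 7, 6, 8, 6, 8, 6, 8, 8, 8, 6, 7, 6, 8, 6, 7, 6, 7, 6, 7, 7, 6, 7, 6, 7, 6, 8, 8, 8, 8, 6, 8, 6, 8, 8, 8, 6, 7, 6, 7, 7, 7, 6, 8, 6],
  [7, 7, 7],
  [7, 7, 7],
  [8, 6, 7, 6, 8, 6, 8, 6, 8, 8, 8, 6, 7, 6, 8, 6, 7, 6, 7, 6, 7, 7, 6, 7, 6, 7, 6, 8, 8, 8, 8, 6, 8, 6, 8, 8, 8, 6, 7, 6, 7, 7, 7, 6, 8, 6],
  [7, 7, 7]]

/-- the value words -/
def relY0 : List (List ℕ) := [[7, 7, 7],
  [6, 7, 6, 7, 6, 7, 6, 7, 6, 8, 8, 8],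
  [7, 7, 7],
  [8, 6, 7, 6, 8, 6, 8, 6, 8, 6, 8, 6, 7, 6, 8, 6, 8, 6, 8, 6, 8, 8, 6, 8, 6, 8, 8, 8],
  [8, 6, 7, 6, 8, 6, 8, 6, 8, 8, 8, 6, 7, 6, 8, 6, 7, 6, 7, 6, 7, 7, 6, 7, 6, 7, 6, 8, 8, 8, 8, 6, 8, 6, 8, 8, 6, 7],
  [8, 6, 7, 6, 8, 6, 8, 6, 8, 6, 8, 6, 7, 6, 8, 6, 8, 6, 8, 6, 8, 8, 6, 8, 6, 8, 8, 8]]

/-- the elements determining a value -/
def relSel : List (List (List ℕ)) := [[[1, 304, 7], [2, 242, 16], [334, 365, 9], [382, 201, 330], [353, 227, 353]],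
  [[1, 324, 7], [2, 262, 380], [344, 270, 38], [322, 7, 1]],
  [[1, 304, 7], [2, 242, 16], [334, 323, 26], [382, 67, 324], [353, 234, 353]],
  [[1, 304, 7], [2, 242, 38], [344, 257, 141], [342, 237, 356], [299, 363, 318]],
  [[1, 324, 7], [2, 262, 356], [299, 318, 67], [360, 332, 375]],
  [[1, 304, 7], [2, 242, 38], [344, 257, 141], [342, 16, 381], [299, 363, 332]]]

/-- the remaining possibilities -/
def relYs : List (List ℕ) := [[46, 45, 37, 36, 24, 75, 74, 23],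
  [0, 344, 364, 257, 322, 1, 7, 208, 2, 319, 366, 304, 242, 148, 260, 346],
  [],
  [193, 212, 152, 133, 191, 291, 229, 131],
  [270, 231, 256, 292, 194, 25, 293, 132, 12, 230, 3, 318, 8, 332, 134, 192],
  []]

end Cfsg.Agent.Co3TwoM12.Data
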